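import Mathlib
import Groth.Agent.GenSmooth.Scheme
import Groth.Agent.DimFormulaLib.Misc
import Groth.Agent.DimFormulaLib.Field
import Groth.Agent.FlatDim.Trdeg
import Groth.Agent.S9683

/-!
# Dense opens finite over, or surjecting onto, affine spaces
-/

set_option autoImplicit false
set_option backward.isDefEq.respectTransparency false
set_option linter.style.haveILetI false

universe u

open CategoryTheory CategoryTheory.Limits AlgebraicGeometry TopologicalSpace MvPolynomial
open Groth.Agent.DimFormulaLib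

noncomputable section

namespace Groth.Agent.DenseFinLib

variable {k : Type u} [Field k]

theorem exists_height {X : Scheme.{u}} (f : X ⟶ Spec (CommRingCat.of k)) [LocallyOfFiniteType f] (x : X) :
    ∃ t : ℕ, resTrdegAt f x = t ∧ Order.height x = t := by
  obtain ⟨a, t, -, ht, -, hh⟩ := field_dims f x
  exact ⟨t, ht, hh⟩

theorem height_le_dim {X : Scheme.{u}} (x : X) : (Order.height x : WithBot ℕ∞) ≤ topologicalKrullDim ↥X := by
  rw [topologicalKrullDim, Order.krullDim_eq_of_orderIso (irreducibleSetEquivPoints (α := ↥X))]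
  exact Order.height_le_krullDim x

theorem dim_le_of_height {X : Scheme.{u}} (D : WithBot ℕ∞) (h : ∀ x : X, (Order.height x : WithBot ℕ∞) ≤ D) :
    topologicalKrullDim ↥X ≤ D := by
  rw [topologicalKrullDim, Order.krullDim_eq_of_orderIso (irreducibleSetEquivPoints (α := ↥X)),
    Order.krullDim_eq_iSup_height]
  exact iSup_le h

/-- A dense open has full dimension. -/
theorem dim_dense {X : Scheme.{u}} (f : X ⟶ Spec (CommRingCat.of k)) [LocallyOfFiniteType f] (U : X.Opens)
    (hU : Dense (U : Set X)) : topologicalKrullDim ↥U.toScheme = topologicalKrullDim ↥X := by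
  haveI : IsLocallyNoetherian X := LocallyOfFiniteType.isLocallyNoetherian f
  refine le_antisymm (topologicalKrullDim_subspace_le _ _) (topologicalKrullDim_le_of_components _ fun η hη => ?_)
  have hηU : η ∈ U := mem_of_dense U.isOpen hU hη
  rw [topologicalKrullDim_closure_singleton]
  obtain ⟨t, ht, hh⟩ := exists_height f η
  obtain ⟨t', ht', hh'⟩ := exists_height (U.ι ≫ f) (⟨η, hηU⟩ : U.toScheme)
  rw [resTrdegAt_ι f] at ht'
  have htt : t' = t := by exact_mod_cast ht'.symm.trans ht
  rw [hh, ← htt, ← hh']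
  exact height_le_dim _

/-- A surjection of schemes over a field does not increase the dimension. -/
theorem dim_le_of_surjective {X Y : Scheme.{u}} (g : X ⟶ Y) (q : Y ⟶ Spec (CommRingCat.of k))
    [LocallyOfFiniteType q] [LocallyOfFiniteType (g ≫ q)] (hg : Function.Surjective g.base) :
    topologicalKrullDim ↥Y ≤ topologicalKrullDim ↥X := by
  refine dim_le_of_height _ fun y => ?_
  obtain ⟨x, rfl⟩ := hg y
  obtain ⟨t, ht, hh⟩ := exists_height (g ≫ q) x
  obtain ⟨t', ht', hh'⟩ := exists_height q (g x)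
  rw [FlatDim.resTrdegAt_comp, ht'] at ht
  have hle : t' ≤ t := by
    have h := (le_self_add : (t' : Cardinal.{u}) ≤ (t' : Cardinal.{u}) + resTrdegAt g x)
    rw [ht] at h
    exact_mod_cast h
  rw [hh']
  refine le_trans ?_ (height_le_dim x)
  rw [hh]
  exact_mod_cast hle

theorem topologicalKrullDim_spec (R : CommRingCat.{u}) :
    topologicalKrullDim ↥(Spec R) = ringKrullDim R :=
  PrimeSpectrum.topologicalKrullDim_eq_ringKrullDim (R := R)

theorem dim_mvPoly (ι : Type u) [Finite ι] :
    topologicalKrullDim ↥(Spec (CommRingCat.of (MvPolynomial ι k))) = (Nat.card ι : WithBot ℕ∞) := by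
  rw [topologicalKrullDim_spec]
  simp [MvPolynomial.ringKrullDim_of_isNoetherianRing]

theorem dim_affineSpace (n : ℕ) :
    topologicalKrullDim ↥(𝔸(ULift.{u} (Fin n); Spec (CommRingCat.of k))) = (n : WithBot ℕ∞) := by
  rw [IsHomeomorph.topologicalKrullDim_eq _ (Scheme.homeoOfIso (AffineSpace.SpecIso (ULift.{u} (Fin n))
    (CommRingCat.of k))).isHomeomorph]
  refine (dim_mvPoly (k := k) (ULift.{u} (Fin n))).trans ?_
  simp

/-- Truncation or extension by zero of the variables. -/
def trunc (n s : ℕ) : MvPolynomial (ULift.{u} (Fin n)) k →ₐ[k] MvPolynomial (ULift.{u} (Fin s)) k :=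
  aeval fun i => if h : (i.down : ℕ) < s then X ⟨⟨i.down, h⟩⟩ else 0

theorem trunc_surjective {n s : ℕ} (h : s ≤ n) : Function.Surjective (trunc (k := k) n s) := by
  intro p
  induction p using MvPolynomial.induction_on with
  | C a => exact ⟨C a, by simp [trunc]⟩
  | add p q hp hq =>
    obtain ⟨a, rfl⟩ := hp
    obtain ⟨b, rfl⟩ := hq
    exact ⟨a + b, map_add _ _ _⟩
  | mul_X p i hp =>
    obtain ⟨a, rfl⟩ := hp
    refine ⟨a * X ⟨⟨i.down, lt_of_lt_of_le i.down.isLt h⟩⟩, ?_⟩
    rw [map_mul]
    congr 1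
    simp [trunc]

theorem trunc_trunc {n s : ℕ} (h : n ≤ s) (p : MvPolynomial (ULift.{u} (Fin n)) k) :
    trunc s n (trunc n s p) = p := by
  refine congrArg (fun φ : MvPolynomial (ULift.{u} (Fin n)) k →ₐ[k] _ => φ p)
    (show (trunc s n).comp (trunc n s) = AlgHom.id k _ from ?_)
  refine MvPolynomial.algHom_ext fun i => ?_
  have h1 : (i.down : ℕ) < s := lt_of_lt_of_le i.down.isLt h
  simp [trunc, h1]

theorem trunc_comap_surjective {n s : ℕ} (h : n ≤ s) :
    Function.Surjective (PrimeSpectrum.comap (trunc (k := k) n s).toRingHom) := fun p => by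
  refine ⟨PrimeSpectrum.comap (trunc (k := k) s n).toRingHom p, PrimeSpectrum.ext ?_⟩
  ext x
  show trunc s n (trunc n s x) ∈ p.asIdeal ↔ _
  rw [trunc_trunc h]

section

variable {A : Type u} [CommRing A] [Algebra k A] [Algebra.FiniteType k A]

theorem exists_noether :
    ∃ (s : ℕ) (g : MvPolynomial (ULift.{u} (Fin s)) k →ₐ[k] A), g.toRingHom.Finite ∧
      (Nontrivial A → Function.Surjective (PrimeSpectrum.comap g.toRingHom) ∧
        topologicalKrullDim (PrimeSpectrum A) = (s : WithBot ℕ∞)) := by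
  rcases subsingleton_or_nontrivial A with hA | hA
  · exact ⟨0, aeval 0, RingHom.Finite.of_surjective _ fun a => ⟨0, Subsingleton.elim _ _⟩,
      fun h => (not_nontrivial A h).elim⟩
  obtain ⟨s, g₀, hinj, hfin⟩ := exists_finite_inj_algHom_of_fg k A
  let e : MvPolynomial (ULift.{u} (Fin s)) k ≃ₐ[k] MvPolynomial (Fin s) k := renameEquiv k Equiv.ulift
  let g := g₀.comp e.toAlgHom
  have hgf : g.toRingHom.Finite := RingHom.Finite.comp hfin (RingHom.Finite.of_surjective _ e.surjective)
  have hgi : Function.Injective g.toRingHom := hinj.comp e.injective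
  have hsurj := (RingHom.IsIntegral.comap_surjective hgf.to_isIntegral hgi)
  refine ⟨s, g, hgf, fun _ => ⟨hsurj, ?_⟩⟩
  let φ : Spec (CommRingCat.of A) ⟶ Spec (CommRingCat.of (MvPolynomial (ULift.{u} (Fin s)) k)) :=
    Spec.map (CommRingCat.ofHom g.toRingHom)
  haveI : IsFinite φ := (IsFinite.SpecMap_iff _).2 hgf
  haveI : Surjective φ := ⟨hsurj⟩
  have h := (Groth.Agent.S9683.result φ).2 inferInstance
  rw [dim_mvPoly] at h
  refine h.trans ?_
  simp

end

theorem main {X : Scheme.{u}} (f : X ⟶ Spec (CommRingCat.of k)) [LocallyOfFiniteType f] [QuasiCompact f] (n : ℕ) :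
    ∃ (U : X.Opens) (g : (U : Scheme.{u}) ⟶ 𝔸(ULift.{u} (Fin n); Spec (CommRingCat.of k))),
      Dense (U : Set X) ∧
      g ≫ (𝔸(ULift.{u} (Fin n); Spec (CommRingCat.of k)) ↘ Spec (CommRingCat.of k)) = U.ι ≫ f ∧
      ((n : WithBot ℕ∞) ≤ topologicalKrullDim (X : Type u) → Function.Surjective g.base) ∧
      (topologicalKrullDim (X : Type u) ≤ n → IsFinite g) := by
  haveI : IsLocallyNoetherian X := LocallyOfFiniteType.isLocallyNoetherian f
  haveI : CompactSpace X := QuasiCompact.compactSpace_of_compactSpace f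
  haveI : IsNoetherian X := {}
  obtain ⟨U, hU, hUd⟩ := GenSmooth.exists_dense_affine X
  haveI : IsAffine U.toScheme := hU
  let A : Type u := Γ(X, U)
  let φ : CommRingCat.of k ⟶ Γ(X, U) := Spec.preimage (hU.fromSpec ≫ f)
  letI : Algebra k A := φ.hom.toAlgebra
  haveI : Algebra.FiniteType k A := by
    have : LocallyOfFiniteType (Spec.map φ) := by rw [Spec.map_preimage]; infer_instance
    exact (HasRingHomProperty.Spec_iff (P := @LocallyOfFiniteType)).mp this
  obtain ⟨s, g₀, hfin, hnt⟩ := exists_noether (k := k) (A := A)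
  let ψ := g₀.comp (trunc (k := k) n s)
  let Ψ : CommRingCat.of (MvPolynomial (ULift.{u} (Fin n)) k) ⟶ Γ(X, U) := CommRingCat.ofHom ψ.toRingHom
  let g : (U : Scheme.{u}) ⟶ 𝔸(ULift.{u} (Fin n); Spec (CommRingCat.of k)) :=
    hU.isoSpec.hom ≫ Spec.map Ψ ≫ (AffineSpace.SpecIso (ULift.{u} (Fin n)) (CommRingCat.of k)).inv
  refine ⟨U, g, hUd, ?_, fun h => ?_, fun h => ?_⟩
  · have hc : CommRingCat.ofHom C ≫ Ψ = φ := by
      ext a
      exact ψ.commutes a
    simp only [g, Category.assoc, AffineSpace.SpecIso_inv_over, ← Spec.map_comp, hc]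
    rw [Spec.map_preimage, IsAffineOpen.fromSpec, Category.assoc, Iso.hom_inv_id_assoc]
  all_goals
    have hdimA : topologicalKrullDim (PrimeSpectrum A) = topologicalKrullDim ↥X := by
      rw [← dim_dense f U hUd]
      exact (IsHomeomorph.topologicalKrullDim_eq _ (Scheme.homeoOfIso hU.isoSpec).isHomeomorph).symm
  · haveI hA : Nontrivial A := by
      by_contra hA
      rw [not_nontrivial_iff_subsingleton] at hA
      rw [← hdimA] at h
      have : topologicalKrullDim (PrimeSpectrum A) = ⊥ := by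
        rw [PrimeSpectrum.topologicalKrullDim_eq_ringKrullDim]
        exact ringKrullDim_eq_bot_of_subsingleton
      rw [this] at h
      exact (WithBot.natCast_ne_bot n) (le_bot_iff.1 h)
    obtain ⟨hs, hd⟩ := hnt hA
    have hns : n ≤ s := by
      rw [← hdimA, hd] at h
      exact_mod_cast h
    have h1 : Function.Surjective (Spec.map Ψ).base := (trunc_comap_surjective hns).comp hs
    simp only [g, Scheme.Hom.comp_base, TopCat.coe_comp]
    exact ((AffineSpace.SpecIso _ _).inv.homeomorph.surjective.comp h1).comp hU.isoSpec.hom.homeomorph.surjective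
  · have hψ : ψ.toRingHom.Finite := by
      rcases subsingleton_or_nontrivial A with hA | hA
      · exact RingHom.Finite.of_surjective _ fun a => ⟨0, Subsingleton.elim _ _⟩
      · obtain ⟨-, hd⟩ := hnt hA
        have hns : s ≤ n := by
          rw [← hdimA, hd] at h
          exact_mod_cast h
        exact RingHom.Finite.comp hfin (RingHom.Finite.of_surjective _ (trunc_surjective hns))
    haveI : IsFinite (Spec.map Ψ) := (IsFinite.SpecMap_iff _).2 hψ
    infer_instance

end Groth.Agent.DenseFinLib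

namespace Groth.Agent.DenseFinLib

theorem le_dim_of_exists {k : Type u} [Field k] {X : Scheme.{u}} (f : X ⟶ Spec (CommRingCat.of k)) [LocallyOfFiniteType f] (n : ℕ)
    {U : X.Opens} {g : (U : Scheme.{u}) ⟶ 𝔸(ULift.{u} (Fin n); Spec (CommRingCat.of k))}
    (hc : g ≫ (𝔸(ULift.{u} (Fin n); Spec (CommRingCat.of k)) ↘ Spec (CommRingCat.of k)) = U.ι ≫ f)
    (hg : Function.Surjective g.base) : (n : WithBot ℕ∞) ≤ topologicalKrullDim (X : Type u) := by
  haveI : LocallyOfFiniteType (g ≫ (𝔸(ULift.{u} (Fin n); Spec (CommRingCat.of k)) ↘ Spec (CommRingCat.of k))) := by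
    rw [hc]; infer_instance
  rw [← dim_affineSpace (k := k) n]
  exact (dim_le_of_surjective g (𝔸(ULift.{u} (Fin n); Spec (CommRingCat.of k)) ↘ Spec (CommRingCat.of k)) hg).trans (topologicalKrullDim_subspace_le _ _)

theorem dim_le_of_exists {k : Type u} [Field k] {X : Scheme.{u}} (f : X ⟶ Spec (CommRingCat.of k)) [LocallyOfFiniteType f] (n : ℕ)
    {U : X.Opens} (hU : Dense (U : Set X))
    (g : (U : Scheme.{u}) ⟶ 𝔸(ULift.{u} (Fin n); Spec (CommRingCat.of k))) [IsFinite g] :
    topologicalKrullDim (X : Type u) ≤ (n : WithBot ℕ∞) := by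
  rw [← dim_affineSpace (k := k) n, ← dim_dense f U hU]
  exact (Groth.Agent.S9683.result g).1

end Groth.Agent.DenseFinLib
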